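import Mathlib

/-!
The index of the normaliser of a cubic field in an overgroup: the possible values.
-/

set_option autoImplicit false

namespace Cfsg.Agent.ClassicalMax.SL3.Singer

theorem small_check : ∀ q < 140, ∀ j < 9, ∀ m < 9,
    (0 < j ∧ 0 < m ∧ 9 * (q * q) + 3 * (j * j) + 15 * j + 18 = j * m * (q * q) + (27 + 12 * j + j * m) * q + 3 * m + j * m) →
      q ≤ 4 ∨ q = 10 := by
  decide +kernel

theorem core_one {q i j : ℤ} (hq : 2 ≤ q) (hi : 1 ≤ i) (hj : 1 ≤ j)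
    (h : 3 * (i + j) + 3 * (i * j) * (q ^ 2 + q + 1) = (q - 1) * (q - 2) * (q ^ 2 + q + 1) + (4 * q - 5)) :
    j = q - 1 ∨ 3 * j = q - 2 := by
  obtain ⟨m, hm⟩ : ∃ m : ℤ, m = (q - 1) * (q - 2) - 3 * (i * j) := ⟨_, rfl⟩
  have hsum : 3 * (i + j) = 4 * q - 5 + m * (q ^ 2 + q + 1) := by rw [hm]; linarith
  rcases lt_trichotomy m 0 with h' | h' | h'
  · have : m * (q ^ 2 + q + 1) ≤ -(q ^ 2 + q + 1) := by
      nlinarith [mul_le_mul_of_nonneg_right (show m ≤ -1 by omega) (show (0:ℤ) ≤ q ^ 2 + q + 1 by positivity)]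
    nlinarith
  · have hp : (3 * j - 3 * (q - 1)) * (3 * j - (q - 2)) = 0 := by
      rw [h'] at hsum hm
      linear_combination 3 * j * hsum - 3 * hm
    rcases mul_eq_zero.1 hp with e | e
    · exact Or.inl (by omega)
    · exact Or.inr (by omega)
  · exfalso
    wlog hle : j ≤ i generalizing i j
    · exact this hj hi (by linarith) (by rw [hm]; ring) (by linarith) (by omega)
    have hc : q ^ 2 + q + 1 ≤ m * (q ^ 2 + q + 1) := le_mul_of_one_le_left (by positivity) (by omega)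
    have h6 : q ^ 2 + q + 1 ≤ 6 * i := by linarith
    have hj1 : j = 1 := by
      by_contra hne
      nlinarith [mul_le_mul_of_nonneg_right (show 2 ≤ j by omega) (show (0:ℤ) ≤ i by omega)]
    subst hj1
    nlinarith

theorem core_three {q i j cb : ℤ} (hq : 7 ≤ q) (h10 : q ≠ 10) (hcb : 3 * cb = q ^ 2 + q + 1) (hi : 1 ≤ i) (hj : 1 ≤ j)
    (h : i + j + i * j * cb = 3 * ((q - 1) * (q - 2)) * cb + (4 * q - 5)) :
    j = 3 * (q - 1) ∨ j = q - 2 := by
  obtain ⟨m, hm⟩ : ∃ m : ℤ, m = 3 * ((q - 1) * (q - 2)) - i * j := ⟨_, rfl⟩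
  have hsum : i + j = 4 * q - 5 + m * cb := by rw [hm]; linarith
  have hcb0 : 0 < cb := by nlinarith
  rcases lt_trichotomy m 0 with h' | h' | h'
  · exfalso
    have h1 : m * cb ≤ -cb := by nlinarith
    have h8 : 8 * q ≤ 3 * cb := by nlinarith
    have hle : 3 * (i + j) ≤ 4 * q := by linarith
    have h2 : 0 ≤ (i - j) ^ 2 := sq_nonneg _
    nlinarith [mul_le_mul hle hle (by omega) (by omega)]
  · have hp : (j - 3 * (q - 1)) * (j - (q - 2)) = 0 := by
      rw [h'] at hsum hm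
      linear_combination j * hsum - hm
    rcases mul_eq_zero.1 hp with e | e
    · exact Or.inl (by omega)
    · exact Or.inr (by omega)
  · exfalso
    wlog hle : j ≤ i generalizing i j
    · exact this hj hi (by linarith) (by rw [hm]; ring) (by linarith) (by omega)
    have hi' : i = 4 * q - 5 + m * cb - j := by linarith
    have key : (9 - j * m) * q ^ 2 - (27 + 12 * j + j * m) * q + (18 + 15 * j + 3 * j ^ 2 - 3 * m - j * m) = 0 := by
      subst hi'
      linear_combination -3 * hm + j * m * hcb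
    have hj2 : j ≤ 2 * q := by
      by_contra hgt
      nlinarith [mul_le_mul hle (show 2 * q ≤ j by omega) (by omega) (by omega : (0:ℤ) ≤ i)]
    have hk : j * m ≤ 8 := by
      by_contra hk
      have h1 : (9 - j * m) * q ^ 2 ≤ 0 := mul_nonpos_of_nonpos_of_nonneg (by omega) (sq_nonneg _)
      have h2 : 3 * j ^ 2 + 15 * j - 12 * j * q ≤ 0 := by nlinarith
      nlinarith [mul_pos (show (0:ℤ) < j by omega) h']
    have hj8 : j ≤ 8 := le_trans (le_mul_of_one_le_right (by omega) (by omega)) hk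
    have hm8 : m ≤ 8 := le_trans (le_mul_of_one_le_left (by omega) (by omega)) hk
    have hmod : q % 3 = 1 := by
      have : (q ^ 2 + q + 1) % 3 = 0 := by omega
      have hq3 : q % 3 = 0 ∨ q % 3 = 1 ∨ q % 3 = 2 := by omega
      rcases hq3 with e | e | e <;> simp [pow_two, Int.add_emod, Int.mul_emod, e] at this <;> omega
    have hc0 : 3 * m + j * m < 18 + 15 * j + 3 * j ^ 2 := by nlinarith
    have hq131 : q < 140 := by
      by_contra hge
      nlinarith [mul_le_mul_of_nonneg_left (show (140:ℤ) ≤ q by omega) (show (0:ℤ) ≤ (9 - j * m) by omega)]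
    lift j to ℕ using (by omega) with j'
    lift m to ℕ using (by omega) with m'
    lift q to ℕ using (by omega) with q'
    have keyN : 9 * (q' * q') + 3 * (j' * j') + 15 * j' + 18 =
        j' * m' * (q' * q') + (27 + 12 * j' + j' * m') * q' + 3 * m' + j' * m' := by
      zify; linear_combination key
    rcases small_check q' (by omega) j' (by omega) m' (by omega) ⟨by omega, by omega, keyN⟩ with e | e <;> omega

theorem not_isPrimePow_ten {q : ℕ} (hq : IsPrimePow q) : q ≠ 10 := by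
  rintro rfl
  obtain ⟨p, k, hp, hk, h⟩ := hq
  have hp' := hp.nat_prime
  have h2 : 2 ∣ p := Nat.prime_two.dvd_of_dvd_pow (n := k) (by rw [h]; norm_num)
  have h5 : 5 ∣ p := Nat.prime_five.dvd_of_dvd_pow (n := k) (by rw [h]; norm_num)
  rw [Nat.prime_dvd_prime_iff_eq Nat.prime_two hp'] at h2
  rw [Nat.prime_dvd_prime_iff_eq Nat.prime_five hp'] at h5
  omega

/-- the index of the normaliser in an overgroup -/
theorem arith {q D E cb d : ℕ} (hq : IsPrimePow q) (h4 : q ≠ 4) (hd : d = 1 ∧ q % 3 ≠ 1 ∨ d = 3 ∧ q % 3 = 1)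
    (hcb : d * cb = q ^ 2 + q + 1) (h : 3 * (D * E) = q ^ 3 * (q - 1) ^ 2 * (q + 1)) (hD : cb ∣ D - 1) :
    D = 1 ∨ E = 1 ∨ D = q ^ 3 ∨ 3 * D = (q - 1) ^ 2 * (q + 1) := by
  have hq2 : 2 ≤ q := hq.two_le
  have hpos : 0 < q ^ 3 * (q - 1) ^ 2 * (q + 1) := by
    have : 0 < q - 1 := by omega
    positivity
  have hD1 : 1 ≤ D := by
    rcases Nat.eq_zero_or_pos D with e | e
    · subst e; simp at h; omega
    · exact e
  have hE1 : 1 ≤ E := by
    rcases Nat.eq_zero_or_pos E with e | e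
    · subst e; simp at h; omega
    · exact e
  have hz : (3 : ℤ) * ((D : ℤ) * E) = (q : ℤ) ^ 3 * ((q : ℤ) - 1) ^ 2 * ((q : ℤ) + 1) := by
    have := congrArg (Nat.cast : ℕ → ℤ) h
    push_cast [Nat.cast_sub (show 1 ≤ q by omega)] at this
    exact this
  have hcz : (d : ℤ) * cb = (q : ℤ) ^ 2 + q + 1 := by exact_mod_cast hcb
  have hcb3 : ¬ 3 ∣ cb := by
    intro h3
    obtain ⟨t, rfl⟩ := h3
    obtain ⟨s, r, hr, hqs⟩ : ∃ s r, r < 3 ∧ q = 3 * s + r := ⟨q / 3, q % 3, Nat.mod_lt _ (by norm_num), by omega⟩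
    rcases hd with ⟨rfl, h⟩ | ⟨rfl, h⟩ <;> subst hqs <;> interval_cases r <;> ring_nf at hcb <;> omega
  obtain ⟨j, hj⟩ := hD
  have hjz : (D : ℤ) = 1 + cb * j := by
    rw [show D = 1 + cb * j by omega]; push_cast; ring
  have h3N : (3 : ℤ) * ((D : ℤ) * E) - 3 =
      ((q : ℤ) ^ 2 + q + 1) * (((q : ℤ) - 1) * ((q : ℤ) - 2) * ((q : ℤ) ^ 2 + q + 1) + (4 * q - 5)) := by
    rw [hz]; ring
  obtain ⟨i, hiE⟩ : (cb : ℤ) ∣ (E : ℤ) - 1 := by
    have hcop : IsCoprime (cb : ℤ) 3 := by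
      have := (Nat.prime_three.coprime_iff_not_dvd.2 hcb3).symm
      exact_mod_cast Nat.isCoprime_iff_coprime.2 this
    refine hcop.dvd_of_dvd_mul_left ?_
    have h1 : (cb : ℤ) ∣ 3 * ((D : ℤ) * E) - 3 := by
      rw [h3N]; exact dvd_mul_of_dvd_left (show (cb : ℤ) ∣ (q : ℤ) ^ 2 + q + 1 from ⟨d, by rw [← hcz]; ring⟩) _
    have h2 : (cb : ℤ) ∣ 3 * (((D : ℤ) - 1) * E) := ⟨3 * (j * E), by rw [hjz]; ring⟩
    have h3 := dvd_sub h1 h2
    rwa [show (3 : ℤ) * ((D : ℤ) * E) - 3 - 3 * (((D : ℤ) - 1) * E) = 3 * ((E : ℤ) - 1) by ring] at h3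
  rcases Nat.eq_zero_or_pos j with rfl | hjp
  · exact Or.inl (by simp at hj; omega)
  have hEz : (E : ℤ) = 1 + cb * i := by linarith
  rcases Nat.lt_or_ge 1 E with hE2 | hE2
  swap
  · exact Or.inr (Or.inl (by omega))
  have hcb0 : (0 : ℤ) < cb := by
    rcases Nat.eq_zero_or_pos cb with e | e
    · simp [e] at hcb
    · exact_mod_cast e
  have hip : (1 : ℤ) ≤ i := by
    by_contra hi'
    have : (cb : ℤ) * i ≤ 0 := mul_nonpos_of_nonneg_of_nonpos hcb0.le (by omega)
    omega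
  have hjp' : (1 : ℤ) ≤ j := by exact_mod_cast hjp
  have hmul : (cb : ℤ) * (3 * (i + j) + 3 * (i * j) * cb) =
      (cb : ℤ) * ((d : ℤ) * (((q : ℤ) - 1) * ((q : ℤ) - 2) * ((q : ℤ) ^ 2 + q + 1) + (4 * q - 5))) := by
    have e : ((q : ℤ) ^ 2 + q + 1) = d * cb := hcz.symm
    have := h3N
    rw [hjz, hEz] at this
    rw [e] at this ⊢
    linear_combination this
  have heq := mul_left_cancel₀ hcb0.ne' hmul
  rcases hd with ⟨rfl, hmod⟩ | ⟨rfl, hmod⟩
  · have hc : (cb : ℤ) = (q : ℤ) ^ 2 + q + 1 := by rw [← hcz]; simp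
    simp only [Nat.cast_one, one_mul] at heq
    rw [hc] at heq
    rcases core_one (by exact_mod_cast hq2) hip hjp' heq with e | e
    · refine Or.inr (Or.inr (Or.inl ?_))
      have : (D : ℤ) = ((q ^ 3 : ℕ) : ℤ) := by rw [hjz, hc, e]; push_cast; ring
      exact_mod_cast this
    · refine Or.inr (Or.inr (Or.inr ?_))
      have : ((3 * D : ℕ) : ℤ) = (((q - 1) ^ 2 * (q + 1) : ℕ) : ℤ) := by
        push_cast [Nat.cast_sub (show 1 ≤ q by omega)]
        rw [hjz, hc]; linear_combination ((q : ℤ) ^ 2 + q + 1) * e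
      exact_mod_cast this
  · have hc : 3 * (cb : ℤ) = (q : ℤ) ^ 2 + q + 1 := by rw [← hcz]; simp
    have heq' : i + j + i * j * cb = 3 * (((q : ℤ) - 1) * ((q : ℤ) - 2)) * cb + (4 * q - 5) := by
      rw [← hc] at heq; push_cast at heq; linarith
    have h7 : (7 : ℤ) ≤ q := by omega
    have h10 : (q : ℤ) ≠ 10 := by exact_mod_cast not_isPrimePow_ten hq
    rcases core_three h7 h10 hc hip hjp' heq' with e | e
    · refine Or.inr (Or.inr (Or.inl ?_))
      have : (D : ℤ) = ((q ^ 3 : ℕ) : ℤ) := by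
        rw [hjz, e]; push_cast; linear_combination ((q : ℤ) - 1) * hc
      exact_mod_cast this
    · refine Or.inr (Or.inr (Or.inr ?_))
      have : ((3 * D : ℕ) : ℤ) = (((q - 1) ^ 2 * (q + 1) : ℕ) : ℤ) := by
        push_cast [Nat.cast_sub (show 1 ≤ q by omega)]
        rw [hjz, e]; linear_combination ((q : ℤ) - 2) * hc
      exact_mod_cast this

end Cfsg.Agent.ClassicalMax.SL3.Singer
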