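import Cfsg.Agent.ClassicalMax.SL3.Singer.Field

/-!
A group of order prime to the characteristic containing the norm one elements of a cubic field is small: each
vector has an invariant complementary functional, these form a polarity, and a line meets few classes.
-/

set_option autoImplicit false
set_option linter.unusedSectionVars false
set_option linter.style.haveILetI false

namespace Cfsg.Agent.ClassicalMax.SL3.Singer

open Module

variable {F L : Type*} [Field F] [Field L] [Algebra F L] [Fintype F] [Finite L]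

/-- a finite group of order prime to the characteristic fixing a vector fixes a functional not vanishing on it -/
theorem exists_fixed_functional (G : Subgroup (L ≃ₗ[F] L)) [Finite G] (hG : (Nat.card G : F) ≠ 0) {v : L} (hv : v ≠ 0)
    (hfix : ∀ g ∈ G, g v = v) : ∃ φ : Dual F L, φ v = 1 ∧ ∀ g ∈ G, ∀ x, φ (g x) = φ x := by
  haveI := Fintype.ofFinite G
  obtain ⟨f, hf, -⟩ := exists_dual_one (⊥ : Submodule F L) (x := v) (by rwa [Submodule.mem_bot])
  refine ⟨(Nat.card G : F)⁻¹ • ∑ h : G, f.comp (h : L ≃ₗ[F] L).toLinearMap, ?_, fun g hg x => ?_⟩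
  · rw [LinearMap.smul_apply, LinearMap.sum_apply]
    have : ∀ h : G, (f.comp (h : L ≃ₗ[F] L).toLinearMap) v = 1 := fun h => by
      show f ((h : L ≃ₗ[F] L) v) = 1
      rw [hfix _ h.2, hf]
    rw [Finset.sum_congr rfl fun h _ => this h, Finset.sum_const, Finset.card_univ, nsmul_eq_mul, mul_one,
      ← Nat.card_eq_fintype_card, smul_eq_mul, inv_mul_cancel₀ hG]
  · rw [LinearMap.smul_apply, LinearMap.smul_apply, LinearMap.sum_apply, LinearMap.sum_apply]
    congr 1
    exact Fintype.sum_equiv (Equiv.mulRight (⟨g, hg⟩ : G)) _ _ fun h => rfl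

/-- an element of order prime to the characteristic fixing a plane of such a functional is the identity -/
theorem eq_one_of_fix (h3 : finrank F L = 3) {g : L ≃ₗ[F] L} (hd : LinearMap.det g.toLinearMap = 1)
    {m : ℕ} (hm : (m : F) ≠ 0) (hgm : g ^ m = 1) {φ : Dual F L} {v w : L} (hφv : φ v = 1)
    (hφ : ∀ x, φ (g x) = φ x) (hgv : g v = v) (hφw : φ w = 0) (hw : w ≠ 0) (hgw : g w = w) : g = 1 := by
  haveI : FiniteDimensional F L := Module.finite_of_finrank_pos (by omega)
  set P : Submodule F L := Submodule.span F ({v, w} : Set L) with hP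
  have hvmem : v ∈ P := Submodule.subset_span (Set.mem_insert _ _)
  have hwmem : w ∈ P := Submodule.subset_span (Set.mem_insert_of_mem _ rfl)
  have hv0 : v ≠ 0 := fun e => by simp [e] at hφv
  have h2 : finrank F P = 2 := by
    have hli : LinearIndependent F ![v, w] := (LinearIndependent.pair_iff' hv0).2 fun a e => hw (by
      have := congrArg φ e
      rw [map_smul, hφv, hφw, smul_eq_mul, mul_one] at this
      rw [← e, this, zero_smul])
    have := finrank_span_eq_card hli
    rwa [Matrix.range_cons, Matrix.range_cons, Matrix.range_empty, Set.union_empty, Set.singleton_union,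
      Fintype.card_fin] at this
  obtain ⟨u, -, hu⟩ := SetLike.exists_of_lt (lt_top_iff_ne_top.2 (fun e => by rw [e, finrank_top, h3] at h2; omega) : P < ⊤)
  obtain ⟨ψ, hψu, hψP⟩ := exists_dual_one P hu
  have hker : P = LinearMap.ker ψ := Submodule.eq_of_le_of_finrank_eq hψP (by
    have := Dual.finrank_ker_add_one_of_ne_zero (f := ψ) (fun e => by simp [e] at hψu)
    omega)
  set n := g u - u with hn
  have hfixP : ∀ z ∈ P, g z = z := fun z hz => by
    obtain ⟨a, b, rfl⟩ := Submodule.mem_span_pair.1 hz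
    rw [map_add, map_smul, map_smul, hgv, hgw]
  have hg : ∀ x, g x = x + ψ x • n := fun x => by
    have hz : x - ψ x • u ∈ P := by
      rw [hker, LinearMap.mem_ker, map_sub, map_smul, hψu, smul_eq_mul, mul_one, sub_self]
    have := hfixP _ hz
    rw [map_sub, map_smul, sub_eq_sub_iff_add_eq_add] at this
    rw [hn, smul_sub, add_sub_assoc', eq_sub_iff_add_eq]
    exact this
  have htr : g.toLinearMap = LinearMap.transvection ψ n := LinearMap.ext fun x => by
    rw [LinearMap.transvection.apply]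
    exact hg x
  rw [htr, LinearMap.transvection.det, add_eq_left] at hd
  have hgt : g = tvec ψ n := LinearEquiv.ext fun x => by rw [tvec_apply hd, hg]
  have hpow : ∀ k : ℕ, ∀ x, (g ^ k) x = x + ψ x • ((k : F) • n) := by
    intro k
    induction k with
    | zero => intro x; simp
    | succ k ih =>
      intro x
      rw [pow_succ', LinearEquiv.mul_apply, ih, hg]
      simp [hd, add_smul, smul_add, add_assoc]
  have h0 := hpow m u
  rw [hgm, hψu, one_smul, show (1 : L ≃ₗ[F] L) u = u from rfl, left_eq_add, smul_eq_zero] at h0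
  rw [hgt, h0.resolve_left hm, tvec_zero_right]

variable {M : Subgroup (L ≃ₗ[F] L)}

/-- the functional attached to a vector -/
structure Pol (M : Subgroup (L ≃ₗ[F] L)) (φ : L → Dual F L) : Prop where
  self : ∀ v, v ≠ 0 → φ v v = 1
  inv : ∀ v, v ≠ 0 → ∀ g ∈ M, g v = v → ∀ x, φ v (g x) = φ v x
  uniq : ∀ v, v ≠ 0 → ∀ δ : Dual F L, δ v = 1 → (∀ g ∈ M, g v = v → ∀ x, δ (g x) = δ x) → δ = φ v
  symm : ∀ v w, v ≠ 0 → w ≠ 0 → φ v w = 0 → φ w v = 0

theorem exists_pol (h3 : finrank F L = 3) (hdet : ∀ g ∈ M, LinearMap.det g.toLinearMap = 1)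
    (hp : (Nat.card M : F) ≠ 0) (hq : 3 ≤ Fintype.card F)
    (hcard : (Fintype.card F ^ 3 - 1) * (Fintype.card F ^ 2 - 1) ≤ Nat.card M) : ∃ φ, Pol M φ := by
  classical
  haveI : FiniteDimensional F L := Module.finite_of_finrank_pos (by omega)
  haveI : Finite (L ≃ₗ[F] L) := Finite.of_injective _ DFunLike.coe_injective
  let St : L → Subgroup (L ≃ₗ[F] L) := fun v =>
    { carrier := {g | g ∈ M ∧ g v = v}
      one_mem' := ⟨one_mem M, rfl⟩
      mul_mem' := fun {a b} ha hb => ⟨mul_mem ha.1 hb.1, by rw [LinearEquiv.mul_apply, hb.2, ha.2]⟩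
      inv_mem' := fun {a} ha => ⟨inv_mem ha.1, a.injective (by rw [apply_inv, ha.2])⟩ }
  have hdvd : ∀ v, Nat.card (St v) ∣ Nat.card M := fun v => Subgroup.card_dvd_of_le fun g hg => hg.1
  have hne : ∀ v, (Nat.card (St v) : F) ≠ 0 := fun v e => hp (by
    obtain ⟨k, hk⟩ := hdvd v
    rw [hk, Nat.cast_mul, e, zero_mul])
  have hbig : ∀ v, v ≠ 0 → Fintype.card F ^ 2 - 1 ≤ Nat.card (St v) := by
    intro v hv
    have h1 : Nat.card M ≤ Nat.card (St v) * Nat.card {x : L // x ≠ 0} := by
      let r : M → {x : L // x ≠ 0} := fun g => ⟨(g : L ≃ₗ[F] L) v, (g : L ≃ₗ[F] L).map_ne_zero_iff.2 hv⟩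
      let s : {x : L // x ≠ 0} → M := fun x => if h : ∃ g, r g = x then h.choose else 1
      have hs : ∀ g, r (s (r g)) = r g := fun g => by
        have h : ∃ g', r g' = r g := ⟨g, rfl⟩
        simp only [s, dif_pos h]
        exact h.choose_spec
      refine (Nat.card_le_card_of_injective (fun g : M =>
        ((⟨((s (r g))⁻¹ * g : M), ((s (r g))⁻¹ * g : M).2, ?_⟩ : St v), r g)) ?_).trans_eq (Nat.card_prod _ _)
      · refine ((s (r g) : L ≃ₗ[F] L)).injective ?_
        show (s (r g) : L ≃ₗ[F] L) (((s (r g) : L ≃ₗ[F] L)⁻¹ * g) v) = _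
        rw [LinearEquiv.mul_apply, apply_inv]
        exact (congrArg Subtype.val (hs g)).symm
      · intro a b h
        obtain ⟨h1, h2⟩ := Prod.mk.inj h
        have h3 : (s (r a))⁻¹ * a = (s (r b))⁻¹ * b := Subtype.ext (congrArg Subtype.val h1 :)
        rw [h2] at h3
        exact mul_left_cancel h3
    have h2 : Nat.card {x : L // x ≠ 0} = Fintype.card F ^ 3 - 1 := by
      haveI := Fintype.ofFinite L
      rw [Nat.card_eq_fintype_card, Fintype.card_subtype_compl, Fintype.card_subtype_eq, ← Nat.card_eq_fintype_card,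
        card_field h3]
    rw [h2] at h1
    refine Nat.le_of_mul_le_mul_left ?_ (show 0 < Fintype.card F ^ 3 - 1 from ?_)
    · rw [mul_comm (Nat.card (St v))] at h1
      exact hcard.trans h1
    · have := Nat.pow_le_pow_left hq 3; omega
  have hex : ∀ v : L, ∃ φ : Dual F L, v ≠ 0 → φ v = 1 ∧ ∀ g ∈ M, g v = v → ∀ x, φ (g x) = φ x := fun v => by
    by_cases hv : v = 0
    · exact ⟨0, fun h => absurd hv h⟩
    obtain ⟨φ, h1, h2⟩ := exists_fixed_functional (St v) (hne v) hv (fun g hg => hg.2)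
    exact ⟨φ, fun _ => ⟨h1, fun g hg hgv => h2 g ⟨hg, hgv⟩⟩⟩
  choose φ hφ using hex
  -- transitivity on the non-zero vectors of the invariant plane
  have htrans : ∀ v, v ≠ 0 → ∀ x y, φ v x = 0 → x ≠ 0 → φ v y = 0 → y ≠ 0 → ∃ g ∈ M, g v = v ∧ g x = y := by
    intro v hv x y hx hx0 hy hy0
    let T := {z : LinearMap.ker (φ v) // z ≠ 0}
    let r : St v → T := fun g =>
      ⟨⟨(g : L ≃ₗ[F] L) x, by rw [LinearMap.mem_ker, (hφ v hv).2 _ g.2.1 g.2.2, hx]⟩,
        fun e => (g : L ≃ₗ[F] L).map_ne_zero_iff.2 hx0 (congrArg Subtype.val e)⟩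
    have hinj : Function.Injective r := by
      intro a b h
      have h' : (a : L ≃ₗ[F] L) x = (b : L ≃ₗ[F] L) x := congrArg (fun t : T => ((t.1 : LinearMap.ker (φ v)) : L)) h
      have hc : ((b⁻¹ * a : St v) : L ≃ₗ[F] L) = 1 := by
        refine eq_one_of_fix h3 (hdet _ (b⁻¹ * a : St v).2.1) (hne v) ?_ (hφ v hv).1
          (fun z => (hφ v hv).2 _ (b⁻¹ * a : St v).2.1 (b⁻¹ * a : St v).2.2 z) (b⁻¹ * a : St v).2.2 hx hx0 ?_
        · exact congrArg Subtype.val (pow_card_eq_one' (x := (b⁻¹ * a : St v)))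
        · show ((b : L ≃ₗ[F] L)⁻¹ * a) x = x
          rw [LinearEquiv.mul_apply, h', inv_apply]
      exact (inv_mul_eq_one.1 (Subtype.ext hc : b⁻¹ * a = 1)).symm
    have hT : Nat.card T = Fintype.card F ^ 2 - 1 := by
      haveI : Finite (LinearMap.ker (φ v)) := Subtype.finite
      haveI := Fintype.ofFinite (LinearMap.ker (φ v))
      have hk := Dual.finrank_ker_add_one_of_ne_zero (f := φ v) (fun e => by have := (hφ v hv).1; simp [e] at this)
      show Nat.card {z : LinearMap.ker (φ v) // z ≠ 0} = _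
      rw [Nat.card_eq_fintype_card, Fintype.card_subtype_compl, Fintype.card_subtype_eq,
        ← Nat.card_eq_fintype_card, Module.natCard_eq_pow_finrank (K := F), Nat.card_eq_fintype_card,
        show finrank F (LinearMap.ker (φ v)) = 2 by omega]
    have hb : Function.Bijective r := hinj.bijective_of_nat_card_le (hT.trans_le (hbig v hv))
    obtain ⟨g, hg⟩ := hb.2 ⟨⟨y, hy⟩, fun e => hy0 (congrArg Subtype.val e)⟩
    exact ⟨g, g.2.1, g.2.2, congrArg (fun t : T => ((t.1 : LinearMap.ker (φ v)) : L)) hg⟩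
  obtain ⟨a, ha0, ha1⟩ : ∃ a : F, a ≠ 0 ∧ a ≠ 1 := by
    by_contra! hc
    have : Fintype.card F ≤ ({0, 1} : Finset F).card := Finset.card_le_card fun z _ => by
      rcases eq_or_ne z 0 with h | h
      · simp [h]
      · simp [hc z h]
    have := Finset.card_le_two (a := (0:F)) (b := 1)
    omega
  -- scaling inside the plane
  have hscale : ∀ v, v ≠ 0 → ∀ x, φ v x = 0 → ∃ g ∈ M, g v = v ∧ g x = a • x := by
    intro v hv x hx
    rcases eq_or_ne x 0 with rfl | hx0
    · exact ⟨1, one_mem M, rfl, by rw [smul_zero]; rfl⟩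
    exact htrans v hv x _ hx hx0 (by rw [map_smul, hx, smul_zero]) (smul_ne_zero ha0 hx0)
  have huniq : ∀ v, v ≠ 0 → ∀ δ : Dual F L, δ v = 1 → (∀ g ∈ M, g v = v → ∀ x, δ (g x) = δ x) → δ = φ v := by
    intro v hv δ h1 h2
    refine LinearMap.ext fun x => ?_
    set z := x - φ v x • v with hz
    obtain ⟨g, hg, hgv, hgz⟩ := hscale v hv z (by rw [hz, map_sub, map_smul, (hφ v hv).1, smul_eq_mul, mul_one, sub_self])
    have h := h2 g hg hgv z
    rw [hgz, map_smul, smul_eq_mul] at h
    have h0 : δ z = 0 := by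
      by_contra hne'
      exact ha1 ((mul_eq_right₀ hne').1 h)
    rw [hz, map_sub, map_smul, h1, smul_eq_mul, mul_one, sub_eq_zero] at h0
    exact h0
  refine ⟨φ, fun v hv => (hφ v hv).1, fun v hv => (hφ v hv).2, huniq, fun v w hv hw hvw => ?_⟩
  obtain ⟨g, hg, hgv, hgw⟩ := hscale v hv w hvw
  have hgw' : g⁻¹ w = a⁻¹ • w := g.injective (by
    rw [apply_inv, map_smul, hgw, smul_smul, inv_mul_cancel₀ ha0, one_smul])
  have hδ := huniq w hw (a⁻¹ • (φ w).comp g.toLinearMap) (by
      show a⁻¹ • φ w (g w) = 1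
      rw [hgw, map_smul, (hφ w hw).1, smul_eq_mul, smul_eq_mul, mul_one, inv_mul_cancel₀ ha0]) (fun k hk hkw x => by
      show a⁻¹ • φ w (g (k x)) = a⁻¹ • φ w (g x)
      have h1 : (g * k * g⁻¹) w = w := by
        rw [LinearEquiv.mul_apply, LinearEquiv.mul_apply, hgw', map_smul, hkw, map_smul, hgw, smul_smul,
          inv_mul_cancel₀ ha0, one_smul]
      have h2 := (hφ w hw).2 _ (mul_mem (mul_mem hg hk) (inv_mem hg)) h1 (g x)
      rw [LinearEquiv.mul_apply, LinearEquiv.mul_apply, inv_apply] at h2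
      rw [h2])
  have h := LinearMap.congr_fun hδ v
  rw [LinearMap.smul_apply, LinearMap.comp_apply, LinearEquiv.coe_coe, hgv, smul_eq_mul] at h
  by_contra hne'
  exact ha1 (inv_eq_one.1 ((mul_eq_right₀ hne').1 h))

theorem Pol.smul {φ : L → Dual F L} (hP : Pol M φ) {v : L} (hv : v ≠ 0) {a : F} (ha : a ≠ 0) :
    φ (a • v) = a⁻¹ • φ v := by
  refine (hP.uniq _ (smul_ne_zero ha hv) _ ?_ fun g hg hgv x => ?_).symm
  · rw [LinearMap.smul_apply, map_smul, hP.self v hv, smul_eq_mul, smul_eq_mul, mul_one, inv_mul_cancel₀ ha]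
  · rw [map_smul] at hgv
    rw [LinearMap.smul_apply, LinearMap.smul_apply, hP.inv v hv g hg (smul_right_injective L ha hgv)]

theorem Pol.map {φ : L → Dual F L} (hP : Pol M φ) {v : L} (hv : v ≠ 0) {g : L ≃ₗ[F] L} (hg : g ∈ M) :
    φ (g v) = (φ v).comp (g⁻¹ : L ≃ₗ[F] L).toLinearMap := by
  refine (hP.uniq _ (g.map_ne_zero_iff.2 hv) _ ?_ fun k hk hkv x => ?_).symm
  · show φ v (g⁻¹ (g v)) = 1
    rw [inv_apply, hP.self v hv]
  · show φ v (g⁻¹ (k x)) = φ v (g⁻¹ x)
    have h := hP.inv v hv _ (mul_mem (mul_mem (inv_mem hg) hk) hg)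
      (by rw [LinearEquiv.mul_apply, LinearEquiv.mul_apply, hkv, inv_apply]) (g⁻¹ x)
    rwa [LinearEquiv.mul_apply, LinearEquiv.mul_apply, apply_inv] at h

/-- no group of order prime to the characteristic that large contains the norm one elements -/
theorem false_of_large (h3 : finrank F L = 3) (hdet : ∀ g ∈ M, LinearMap.det g.toLinearMap = 1)
    (hC : ∀ x ∈ normOne F L, mulE F L x ∈ M) (hp : (Nat.card M : F) ≠ 0)
    (hcard : (Fintype.card F ^ 3 - 1) * (Fintype.card F ^ 2 - 1) ≤ Nat.card M)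
    (hq2 : Fintype.card F ≠ 2) (hq4 : Fintype.card F ≠ 4) : False := by
  classical
  have hq : 3 ≤ Fintype.card F := by have := Fintype.one_lt_card (α := F); omega
  obtain ⟨φ, hP⟩ := exists_pol h3 hdet hp hq hcard
  haveI : FiniteDimensional F L := Module.finite_of_finrank_pos (by omega)
  haveI := Fintype.ofFinite L
  let Q := Fˣ ⧸ (powMonoidHom 3 : Fˣ →* Fˣ).range
  haveI : Fintype Q := Fintype.ofFinite Q
  let κ : Lˣ →* Q := (QuotientGroup.mk' _).comp (Units.map (Algebra.norm F : L →* F))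
  -- elements of one class move the functionals along
  have hmove : ∀ (x : L) (s : Lˣ), x ≠ 0 → κ s = 1 → ∀ z, φ ((s : L) * x) ((s : L) * z) = φ x z := by
    intro x s hx hs z
    obtain ⟨l, hl⟩ := (QuotientGroup.eq_one_iff _).1 hs
    set a : Lˣ := Units.map (algebraMap F L : F →* L) l with ha
    have hc : s * a⁻¹ ∈ normOne F L := by
      rw [normOne, MonoidHom.mem_ker, map_mul, map_inv, mul_inv_eq_one, ← hl]
      refine Units.ext ?_
      show ((l : F)) ^ 3 = Algebra.norm F (algebraMap F L (l : F))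
      rw [Algebra.norm_algebraMap, h3]
    have hM := hC _ hc
    have hsx : ∀ y : L, (s : L) * y = (l : F) • (mulE F L (s * a⁻¹) y) := fun y => by
      rw [mulE_apply, Algebra.smul_def, ← mul_assoc, Units.val_mul]
      congr 1
      rw [mul_comm (s : L), ← mul_assoc, show algebraMap F L (l : F) = ((a : Lˣ) : L) from rfl, Units.mul_inv, one_mul]
    rw [hsx, hsx, hP.smul ((mulE F L (s * a⁻¹)).map_ne_zero_iff.2 hx) l.ne_zero, LinearMap.smul_apply, map_smul,
      hP.map hx hM, LinearMap.comp_apply, LinearEquiv.coe_coe, inv_apply, smul_eq_mul, smul_eq_mul,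
      inv_mul_cancel_left₀ l.ne_zero]
  let W := LinearMap.ker (φ 1)
  have hk := Dual.finrank_ker_add_one_of_ne_zero (f := φ 1) (fun e => by
    have := hP.self 1 one_ne_zero; simp [e] at this)
  have hW : finrank F W = 2 := by show finrank F (LinearMap.ker (φ 1)) = 2; omega
  have h1W : (1 : L) ∉ W := fun h => by
    have := hP.self 1 one_ne_zero
    rw [show φ 1 1 = 0 from h] at this
    exact zero_ne_one this
  have hline : ∀ (e x : L), e ≠ 0 → x ∈ W → ∀ s : Lˣ, κ s = 1 → x = (s : L) * e → φ e ((s⁻¹ : Lˣ) : L) = 0 := by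
    intro e x he hx s hs hxs
    have h1 : φ x 1 = 0 := hP.symm 1 x one_ne_zero (by rw [hxs]; exact mul_ne_zero s.ne_zero he) hx
    have h2 := hmove e s he hs ((s⁻¹ : Lˣ) : L)
    rw [← hxs, Units.mul_inv, h1] at h2
    exact h2.symm
  -- two vectors of one class determine the line
  have hpair : ∀ (e a b : L) (s t : Lˣ), e ≠ 0 → a ∈ W → b ∈ W → κ s = 1 → κ t = 1 → a = (s : L) * e → b = (t : L) * e →
      b ∉ F ∙ a → ∀ z, φ e (z * ((s : L) * (t : L) * e)⁻¹) = 0 ↔ z ∈ W := by
    intro e a b s t he ha hb hs ht has hbt hab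
    let lam : Dual F L := (φ e).comp (LinearMap.mulRight F ((s : L) * (t : L) * e)⁻¹)
    have hla : lam a = 0 := by
      show φ e (a * _) = 0
      rw [show a * ((s : L) * (t : L) * e)⁻¹ = ((t⁻¹ : Lˣ) : L) by
        rw [has, Units.val_inv_eq_inv_val]; field_simp]
      exact hline e b he hb t ht hbt
    have hlb : lam b = 0 := by
      show φ e (b * _) = 0
      rw [show b * ((s : L) * (t : L) * e)⁻¹ = ((s⁻¹ : Lˣ) : L) by
        rw [hbt, Units.val_inv_eq_inv_val]; field_simp]
      exact hline e a he ha s hs has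
    have hl0 : lam ≠ 0 := fun h0 => by
      have h := LinearMap.congr_fun h0 (e * ((s : L) * (t : L) * e))
      rw [show lam (e * ((s : L) * (t : L) * e)) = φ e (e * ((s : L) * (t : L) * e) * ((s : L) * (t : L) * e)⁻¹) from rfl,
        mul_inv_cancel_right₀ (mul_ne_zero (mul_ne_zero s.ne_zero t.ne_zero) he), hP.self e he] at h
      exact one_ne_zero h
    have hspan : Submodule.span F ({a, b} : Set L) = W ∧ Submodule.span F ({a, b} : Set L) = LinearMap.ker lam := by
      have ha0 : a ≠ 0 := by rw [has]; exact mul_ne_zero s.ne_zero he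
      have h2 : finrank F (Submodule.span F ({a, b} : Set L)) = 2 := by
        have hli : LinearIndependent F ![a, b] :=
          (LinearIndependent.pair_iff' ha0).2 fun c e' => hab (Submodule.mem_span_singleton.2 ⟨c, e'⟩)
        have := finrank_span_eq_card hli
        rwa [Matrix.range_cons, Matrix.range_cons, Matrix.range_empty, Set.union_empty, Set.singleton_union,
          Fintype.card_fin] at this
      have hkl := Dual.finrank_ker_add_one_of_ne_zero hl0
      constructor <;> refine Submodule.eq_of_le_of_finrank_eq ?_ (by omega) <;> rw [Submodule.span_le] <;>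
        rintro x (rfl | rfl)
      exacts [ha, hb, hla, hlb]
    intro z
    rw [← hspan.1, hspan.2, LinearMap.mem_ker]
    rfl
  -- each class contains at most two points of the line
  let S : Finset Lˣ := Finset.univ.filter fun x => (x : L) ∈ W
  have hfib : ∀ k ∈ (Finset.univ : Finset Q), (S.filter fun x => κ x = k).card ≤ 2 * (Fintype.card F - 1) := by
    intro k _
    rcases (S.filter fun x => κ x = k).eq_empty_or_nonempty with h | ⟨a, ha⟩
    · simp [h]
    simp only [Finset.mem_filter, S, Finset.mem_univ, true_and] at ha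
    let A : Lˣ → Finset Lˣ := fun y => Finset.univ.image fun u : Fˣ => Units.map (algebraMap F L : F →* L) u * y
    have hA : ∀ y, (A y).card ≤ Fintype.card F - 1 := fun y => Finset.card_image_le.trans (by
      rw [Finset.card_univ, Fintype.card_units])
    have hmemA : ∀ x y : Lˣ, (x : L) ∈ F ∙ (y : L) → x ∈ A y := fun x y h => by
      obtain ⟨c, hc⟩ := Submodule.mem_span_singleton.1 h
      have hc0 : c ≠ 0 := fun e => x.ne_zero (by rw [← hc, e, zero_smul])
      exact Finset.mem_image.2 ⟨Units.mk0 c hc0, Finset.mem_univ _, Units.ext (by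
        rw [← hc, Algebra.smul_def]; rfl)⟩
    by_cases hall : ∀ x ∈ (S.filter fun x => κ x = k), x ∈ A a
    · exact (Finset.card_le_card hall).trans ((hA a).trans (by omega))
    push Not at hall
    obtain ⟨b, hb, hba⟩ := hall
    simp only [Finset.mem_filter, S, Finset.mem_univ, true_and] at hb
    suffices (S.filter fun x => κ x = k) ⊆ A a ∪ A b from
      (Finset.card_le_card this).trans ((Finset.card_union_le _ _).trans (by have := hA a; have := hA b; omega))
    intro x hx
    simp only [Finset.mem_filter, S, Finset.mem_univ, true_and] at hx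
    by_contra hxab
    rw [Finset.mem_union, not_or] at hxab
    have hcls : ∀ y, κ y = k → κ (y * a⁻¹) = 1 := fun y hy => by rw [map_mul, map_inv, hy, ha.2, mul_inv_cancel]
    have hnot : ∀ y : Lˣ, y ∉ A a → (y : L) ∉ F ∙ (a : L) := fun y hy h => hy (hmemA _ _ h)
    have h1 := hpair (a : L) (a : L) (b : L) 1 (b * a⁻¹) a.ne_zero ha.1 hb.1 (map_one κ) (hcls b hb.2) (by simp)
      (by rw [← Units.val_mul, inv_mul_cancel_right]) (hnot b hba)
    have h2 := hpair (a : L) (a : L) (x : L) 1 (x * a⁻¹) a.ne_zero ha.1 hx.1 (map_one κ) (hcls x hx.2) (by simp)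
      (by rw [← Units.val_mul, inv_mul_cancel_right]) (hnot x hxab.1)
    simp only [Units.val_one, one_mul, ← Units.val_mul, inv_mul_cancel_right] at h1 h2
    have hst : ((x : L) * ((b : L))⁻¹) ∈ (⊥ : Subalgebra F L) := by
      refine scalar_of_stab h3 (U := W) (fun e => by rw [e, finrank_bot] at hW; omega)
        (fun e => h1W (e ▸ Submodule.mem_top)) fun z hz => (h2 _).1 ?_
      have hz' := (h1 z).2 hz
      rwa [show (x : L) * ((b : L))⁻¹ * z * ((x : L))⁻¹ = z * ((b : L))⁻¹ by field_simp]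
    obtain ⟨c, hc⟩ := Algebra.mem_bot.1 hst
    refine hxab.2 (hmemA x b (Submodule.mem_span_singleton.2 ⟨c, ?_⟩))
    rw [Algebra.smul_def, hc, mul_assoc, inv_mul_cancel₀ b.ne_zero, mul_one]
  have hS : S.card = Fintype.card F ^ 2 - 1 := by
    have e : S.map ⟨Units.val, Units.val_injective⟩ = (Finset.univ.filter fun z : L => z ∈ W).erase 0 := by
      ext z
      simp only [Finset.mem_map, S, Finset.mem_filter, Finset.mem_univ, true_and, Function.Embedding.coeFn_mk,
        Finset.mem_erase]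
      exact ⟨fun ⟨u, hu, e⟩ => e ▸ ⟨u.ne_zero, hu⟩, fun ⟨h0, hz⟩ => ⟨Units.mk0 z h0, hz, rfl⟩⟩
    rw [← Finset.card_map, e, Finset.card_erase_of_mem (by simp), ← Fintype.card_subtype,
      ← Nat.card_eq_fintype_card]
    show Nat.card W - 1 = _
    rw [Module.natCard_eq_pow_finrank (K := F), hW, Nat.card_eq_fintype_card]
  have hQ : Fintype.card Q = Nat.gcd (Fintype.card F - 1) 3 := by
    rw [← Nat.card_eq_fintype_card]
    show (powMonoidHom 3 : Fˣ →* Fˣ).range.index = _
    have h1 := (powMonoidHom 3 : Fˣ →* Fˣ).range.card_mul_index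
    have h2 := (powMonoidHom 3 : Fˣ →* Fˣ).ker.card_mul_index
    rw [Subgroup.index_ker, IsCyclic.card_powMonoidHom_ker, Nat.card_units, Nat.card_eq_fintype_card (α := F)] at h2
    rw [Nat.card_units, Nat.card_eq_fintype_card (α := F)] at h1
    have h0 : 0 < Nat.card (powMonoidHom 3 : Fˣ →* Fˣ).range := Nat.card_pos
    exact Nat.eq_of_mul_eq_mul_left h0 (by rw [h1, mul_comm, h2])
  have hcount := Finset.card_le_mul_card_image_of_maps_to (f := κ) (s := S) (t := Finset.univ)
    (fun _ _ => Finset.mem_univ _) _ hfib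
  rw [hS, Finset.card_univ, hQ] at hcount
  have hg3 : Nat.gcd (Fintype.card F - 1) 3 ≤ 3 := Nat.le_of_dvd (by norm_num) (Nat.gcd_dvd_right _ _)
  rcases le_or_gt 6 (Fintype.card F) with h6 | h6
  · obtain ⟨r, hr⟩ : ∃ r, Fintype.card F = r + 6 := ⟨_, (Nat.sub_add_cancel h6).symm⟩
    rw [hr] at hcount hg3
    have h5 := hcount.trans (Nat.mul_le_mul le_rfl hg3)
    have h7 : (r + 6) ^ 2 = r * r + 12 * r + 36 := by ring
    omega
  · have hq35 : Fintype.card F = 3 ∨ Fintype.card F = 5 := by omega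
    rcases hq35 with e | e <;> rw [e] at hcount <;> norm_num at hcount

end Cfsg.Agent.ClassicalMax.SL3.Singer
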