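import Cfsg.Agent.ClassicalMax.SL3.Singer.Main

/-!
The normaliser of a cubic subfield of the matrix algebra is maximal in the special linear group.
-/

set_option autoImplicit false
set_option linter.unusedSectionVars false
set_option linter.style.haveILetI false

namespace Cfsg.Agent.ClassicalMax.SL3.Singer

open Module

variable {F : Type*} [Field F] [Fintype F]

theorem isMaximal_aux {L : Type*} [Field L] [Algebra F L] (h3 : finrank F L = 3)
    (j : L →ₐ[F] Matrix (Fin 3) (Fin 3) F) (hq4 : Fintype.card F ≠ 4) :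
    Cfsg.Geo.IsMaximalIn (Cfsg.Geo.specialLinear (Fin 3) F)
      (Cfsg.Geo.subalgebraNormalizer j.range ⊓ Cfsg.Geo.specialLinear (Fin 3) F) := by
  classical
  haveI : FiniteDimensional F L := Module.finite_of_finrank_pos (by omega)
  haveI : Finite L := Module.finite_of_finite F
  haveI : Finite (L ≃ₗ[F] L) := Finite.of_injective _ DFunLike.coe_injective
  have hjinj : Function.Injective j := (j : L →+* Matrix (Fin 3) (Fin 3) F).injective
  let v₀ : Fin 3 → F := Pi.single 0 1
  have hv₀ : v₀ ≠ 0 := fun h => by simpa [v₀] using congrFun h 0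
  let e₀ : L →ₗ[F] (Fin 3 → F) :=
    { toFun := fun k => (j k).mulVec v₀
      map_add' := fun a b => by rw [map_add, Matrix.add_mulVec]
      map_smul' := fun c a => by rw [map_smul, Matrix.smul_mulVec, RingHom.id_apply] }
  have hinj : Function.Injective e₀ := (injective_iff_map_eq_zero e₀).2 fun k hk => by
    by_contra h0
    refine hv₀ ?_
    have h : (j k⁻¹).mulVec ((j k).mulVec v₀) = 0 := by
      rw [show (j k).mulVec v₀ = e₀ k from rfl, hk, Matrix.mulVec_zero]
    rwa [Matrix.mulVec_mulVec, ← map_mul, inv_mul_cancel₀ h0, map_one, Matrix.one_mulVec] at h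
  let e : L ≃ₗ[F] (Fin 3 → F) := LinearEquiv.ofInjectiveOfFinrankEq e₀ hinj (by rw [h3, finrank_fin_fun])
  have he : ∀ x z : L, (j x).mulVec (e z) = e (x * z) := fun x z => by
    show (j x).mulVec ((j z).mulVec v₀) = (j (x * z)).mulVec v₀
    rw [Matrix.mulVec_mulVec, map_mul]
  let G : Matrix.GeneralLinearGroup (Fin 3) F ≃* (L ≃ₗ[F] L) :=
    { toFun := fun g => e.trans ((glEquiv (Fin 3) F g).trans e.symm)
      invFun := fun g => (glEquiv (Fin 3) F).symm (e.symm.trans (g.trans e))
      left_inv := fun g => by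
        apply (glEquiv (Fin 3) F).injective
        rw [MulEquiv.apply_symm_apply]
        exact LinearEquiv.ext fun x => by simp only [LinearEquiv.trans_apply, LinearEquiv.apply_symm_apply]
      right_inv := fun g => LinearEquiv.ext fun x => by
        simp only [LinearEquiv.trans_apply, MulEquiv.apply_symm_apply, LinearEquiv.symm_apply_apply]
      map_mul' := fun a b => LinearEquiv.ext fun x => by
        simp only [map_mul, LinearEquiv.mul_apply, LinearEquiv.trans_apply, LinearEquiv.apply_symm_apply] }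
  have hGe : ∀ g z, e (G g z) = (g : Matrix (Fin 3) (Fin 3) F).mulVec (e z) := fun g z => by
    show e (e.symm ((glEquiv (Fin 3) F g) (e z))) = _
    rw [e.apply_symm_apply, glEquiv_apply]
  have hsl : ∀ g, g ∈ Cfsg.Geo.specialLinear (Fin 3) F ↔ G g ∈ slE F L := fun g => by
    rw [mem_specialLinear_iff, mem_slE,
      show (G g).toLinearMap = (e.symm.toLinearMap ∘ₗ (glEquiv (Fin 3) F g).toLinearMap ∘ₗ e.symm.symm.toLinearMap) from
        LinearMap.ext fun z => rfl, LinearMap.det_conj]
  have hext : ∀ A B : Matrix (Fin 3) (Fin 3) F, (∀ z, A.mulVec (e z) = B.mulVec (e z)) → A = B := fun A B h =>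
    Matrix.toLin'.injective (LinearMap.ext fun x => by
      have := h (e.symm x); rwa [e.apply_symm_apply] at this)
  have hnor : ∀ g, g ∈ Cfsg.Geo.subalgebraNormalizer j.range ↔ G g ∈ nor F L := fun g => by
    have hiff : ∀ x y : L, ((g : Matrix (Fin 3) (Fin 3) F) * j x *
        ((g⁻¹ : Matrix.GeneralLinearGroup (Fin 3) F) : Matrix (Fin 3) (Fin 3) F) = j y ↔ ∀ z, G g (x * z) = y * G g z) := by
      intro x y
      rw [Units.mul_inv_eq_iff_eq_mul]
      constructor
      · intro h z
        apply e.injective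
        rw [hGe, ← he, Matrix.mulVec_mulVec, h, ← Matrix.mulVec_mulVec, ← hGe, he]
      · intro h
        refine hext _ _ fun z => ?_
        rw [← Matrix.mulVec_mulVec, ← Matrix.mulVec_mulVec, he, ← hGe, h, ← he, hGe]
    constructor
    · intro hg x
      obtain ⟨y, hy⟩ := (hg (j x)).1 ⟨x, rfl⟩
      exact ⟨y, (hiff x y).1 hy.symm⟩
    · intro hg k
      choose f hf using hg
      have hf' : ∀ x, (g : Matrix (Fin 3) (Fin 3) F) * j x *
          ((g⁻¹ : Matrix.GeneralLinearGroup (Fin 3) F) : Matrix (Fin 3) (Fin 3) F) = j (f x) := fun x =>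
        (hiff x (f x)).2 (hf x)
      constructor
      · rintro ⟨x, rfl⟩
        exact ⟨f x, (hf' x).symm⟩
      · rintro ⟨y, hy⟩
        have hfinj : Function.Injective f := fun a b h => hjinj
          ((Units.mul_right_inj g).1 ((Units.mul_left_inj g⁻¹).1 (by rw [hf' a, hf' b, h])))
        obtain ⟨x, rfl⟩ := Finite.injective_iff_surjective.1 hfinj y
        exact ⟨x, (Units.mul_right_inj g).1 ((Units.mul_left_inj g⁻¹).1 ((hf' x).trans hy))⟩
  have hH : ∀ g, g ∈ Cfsg.Geo.subalgebraNormalizer j.range ⊓ Cfsg.Geo.specialLinear (Fin 3) F ↔ G g ∈ norS F L := fun g => by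
    rw [Subgroup.mem_inf, hnor, hsl, norS, Subgroup.mem_inf]
  refine ⟨lt_of_le_of_ne inf_le_right fun heq => ?_, fun M hM1 hM2 => ?_⟩
  · have hcard : Nat.card (slE F L) ≤ Nat.card (norS F L) := Subgroup.card_le_of_le fun x hx => by
      have h : G.symm x ∈ Cfsg.Geo.specialLinear (Fin 3) F := (hsl _).2 (by rwa [G.apply_symm_apply])
      rw [← heq, hH, G.apply_symm_apply] at h
      exact h
    rw [card_slE h3, card_norS h3] at hcard
    have hq := Fintype.one_lt_card (α := F)
    generalize Fintype.card F = q at hcard hq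
    have h1 : q ^ 2 ≤ q ^ 3 := Nat.pow_le_pow_right (by omega) (by norm_num)
    have h2 : 4 ≤ q ^ 2 := Nat.pow_le_pow_left (show 2 ≤ q by omega) 2
    have h4 : q * 2 ≤ q ^ 2 := by rw [pow_two]; exact Nat.mul_le_mul le_rfl (by omega)
    have h5 : (q ^ 3 - 1) * 24 ≤ q ^ 3 * (q ^ 2 - 1) * (q ^ 3 - 1) := by
      rw [mul_comm]
      exact Nat.mul_le_mul (Nat.mul_le_mul (show 8 ≤ q ^ 3 from Nat.pow_le_pow_left (show 2 ≤ q by omega) 3)
        (show 3 ≤ q ^ 2 - 1 by omega)) le_rfl
    have h6 : q ^ 2 + q + 1 ≤ 2 * (q ^ 3 - 1) := by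
      have : 2 * q ^ 2 ≤ q ^ 3 := by rw [pow_succ q 2, mul_comm]; exact Nat.mul_le_mul le_rfl (by omega)
      omega
    omega
  · rcases over_norS h3 hq4 (M := M.map G.toMonoidHom)
      (fun x hx => ⟨G.symm x, hM1 ((hH _).2 (by rwa [G.apply_symm_apply])), G.apply_symm_apply x⟩)
      (by rintro _ ⟨g, hg, rfl⟩; exact (hsl g).1 (hM2 hg)) with h | h
    · refine Or.inl (le_antisymm (fun g hg => (hH g).2 ?_) hM1)
      rw [← h]
      exact Subgroup.mem_map_of_mem _ hg
    · refine Or.inr (le_antisymm hM2 (specialLinear_le M fun φ v hv => ?_))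
      have hv' : (φ.comp e.toLinearMap) (e.symm v) = 0 := by simp [hv]
      obtain ⟨g, hg, hge⟩ := h _ _ hv'
      suffices (glEquiv (Fin 3) F).symm (tvec φ v) = g by rw [this]; exact hg
      apply (glEquiv (Fin 3) F).injective
      rw [MulEquiv.apply_symm_apply]
      refine LinearEquiv.ext fun x => ?_
      have h1 := hGe g (e.symm x)
      rw [e.apply_symm_apply, show G g = tvec _ _ from hge, tvec_apply hv'] at h1
      rw [tvec_apply hv, glEquiv_apply, ← h1]
      simp

/-- the normaliser of a cubic field of matrices is maximal in the special linear group -/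
theorem isMaximal (hq4 : Fintype.card F ≠ 4) (K : Subalgebra F (Matrix (Fin 3) (Fin 3) F))
    (hK : Cfsg.Geo.IsFieldSubalgebra 3 K) :
    Cfsg.Geo.IsMaximalIn (Cfsg.Geo.specialLinear (Fin 3) F)
      (Cfsg.Geo.subalgebraNormalizer K ⊓ Cfsg.Geo.specialLinear (Fin 3) F) := by
  have hKfield : IsField K :=
    { exists_pair_ne := ⟨0, 1, fun h => zero_ne_one (α := Matrix (Fin 3) (Fin 3) F) (congrArg Subtype.val h)⟩
      mul_comm := fun x y => Subtype.ext (hK.comm _ x.2 _ y.2)
      mul_inv_cancel := fun {a} ha => by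
        obtain ⟨y, hy, h⟩ := hK.inv _ a.2 (fun e => ha (Subtype.ext e))
        exact ⟨⟨y, hy⟩, Subtype.ext h⟩ }
  letI : Field K := hKfield.toField
  have := isMaximal_aux (L := K) hK.finrank_eq K.val hq4
  rwa [Subalgebra.range_val] at this

end Cfsg.Agent.ClassicalMax.SL3.Singer
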