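import Cfsg.Agent.ClassicalMax.SL3.Root
import Mathlib.FieldTheory.Finite.GaloisField

/-!
A cubic field as the natural module: multiplications, semilinear maps and their cardinalities.
-/

set_option autoImplicit false
set_option linter.unusedSectionVars false
set_option linter.style.haveILetI false

namespace Cfsg.Agent.ClassicalMax.SL3.Singer

open Module

variable (F L : Type*) [Field F] [Field L] [Algebra F L]

/-- multiplication by a unit -/
def mulE : Lˣ →* (L ≃ₗ[F] L) where
  toFun x :=
    { toFun := fun z => (x : L) * z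
      map_add' := fun a b => mul_add _ _ _
      map_smul' := fun a b => Algebra.mul_smul_comm a _ b
      invFun := fun z => ((x⁻¹ : Lˣ) : L) * z
      left_inv := fun z => x.inv_mul_cancel_left z
      right_inv := fun z => x.mul_inv_cancel_left z }
  map_one' := LinearEquiv.ext fun z => one_mul z
  map_mul' := fun x y => LinearEquiv.ext fun z => mul_assoc (x : L) y z

variable {F L}

theorem mulE_apply (x : Lˣ) (z : L) : mulE F L x z = (x : L) * z := rfl

theorem det_mulE (x : Lˣ) : LinearMap.det (mulE F L x).toLinearMap = Algebra.norm F (x : L) := by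
  rw [Algebra.norm_apply]
  congr 1

variable (F L)

/-- the maps semilinear over `L` -/
def nor [Finite L] : Subgroup (L ≃ₗ[F] L) where
  carrier := {g | ∀ x : L, ∃ y : L, ∀ z, g (x * z) = y * g z}
  one_mem' := fun x => ⟨x, fun z => rfl⟩
  mul_mem' := fun {a b} ha hb x => by
    obtain ⟨y, hy⟩ := hb x
    obtain ⟨w, hw⟩ := ha y
    exact ⟨w, fun z => by rw [LinearEquiv.mul_apply, hy, hw]; rfl⟩
  inv_mem' := fun {g} hg x => by
    choose f hf using hg
    have hinj : Function.Injective f := fun a b h => by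
      have := g.injective ((hf a 1).trans ((congrArg (fun c => c * g 1) h).trans (hf b 1).symm))
      simpa using this
    obtain ⟨w, rfl⟩ := Finite.injective_iff_surjective.1 hinj x
    refine ⟨w, fun z => g.injective ?_⟩
    rw [hf, apply_inv, apply_inv]

/-- the maps of determinant one -/
noncomputable def slE : Subgroup (L ≃ₗ[F] L) := (LinearEquiv.det : (L ≃ₗ[F] L) →* Fˣ).ker

/-- the units of norm one -/
noncomputable def normOne : Subgroup Lˣ := (Units.map (Algebra.norm F : L →* F)).ker

variable {F L}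

theorem mem_slE {g : L ≃ₗ[F] L} : g ∈ slE F L ↔ LinearMap.det g.toLinearMap = 1 := by
  rw [slE, MonoidHom.mem_ker, Units.ext_iff, LinearEquiv.coe_det, Units.val_one]

theorem mem_normOne {x : Lˣ} : x ∈ normOne F L ↔ Algebra.norm F (x : L) = 1 := by
  rw [normOne, MonoidHom.mem_ker, Units.ext_iff]; rfl

theorem mulE_injective : Function.Injective (mulE F L) := fun a b h =>
  Units.ext (by simpa [mulE_apply] using congrArg (fun g : L ≃ₗ[F] L => g 1) h)

theorem mulE_mem_nor [Finite L] (x : Lˣ) : mulE F L x ∈ nor F L := fun a =>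
  ⟨a, fun z => by rw [mulE_apply, mulE_apply, mul_left_comm]⟩

variable (F L)

/-- the normaliser of the field inside the special linear group -/
noncomputable def norS [Finite L] : Subgroup (L ≃ₗ[F] L) := nor F L ⊓ slE F L

variable {F L}

/-- an element stabilising a proper non-zero subspace is a scalar -/
theorem scalar_of_stab (h3 : finrank F L = 3) {U : Submodule F L} (hb : U ≠ ⊥) (ht : U ≠ ⊤) {k : L}
    (hk : ∀ u ∈ U, k * u ∈ U) : k ∈ (⊥ : Subalgebra F L) := by
  haveI := Subalgebra.isSimpleOrder_of_finrank_prime F L (h3 ▸ Nat.prime_three)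
  let S : Subalgebra F L :=
    { carrier := {x | ∀ u ∈ U, x * u ∈ U}
      mul_mem' := fun {a b} ha hb u hu => by rw [mul_assoc]; exact ha _ (hb u hu)
      add_mem' := fun {a b} ha hb u hu => by rw [add_mul]; exact U.add_mem (ha u hu) (hb u hu)
      algebraMap_mem' := fun r u hu => by rw [← Algebra.smul_def]; exact U.smul_mem r hu }
  rcases eq_bot_or_eq_top S with e | e
  · exact e ▸ (hk : k ∈ S)
  · exfalso
    obtain ⟨u, hu, hu0⟩ := Submodule.exists_mem_ne_zero_of_ne_bot hb
    refine ht (eq_top_iff.2 fun z _ => ?_)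
    have := (e ▸ Algebra.mem_top : z * u⁻¹ ∈ S) u hu
    rwa [mul_assoc, inv_mul_cancel₀ hu0, mul_one] at this

/-- one element normalising a non-scalar normalises the field -/
theorem mem_nor_of_one [Finite L] (h3 : finrank F L = 3) {g : L ≃ₗ[F] L} {x : L} (hx : x ∉ (⊥ : Subalgebra F L))
    (h : ∃ y, ∀ z, g (x * z) = y * g z) : g ∈ nor F L := by
  haveI := Subalgebra.isSimpleOrder_of_finrank_prime F L (h3 ▸ Nat.prime_three)
  let S : Subalgebra F L :=
    { carrier := {a | ∃ y, ∀ z, g (a * z) = y * g z}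
      mul_mem' := fun {a b} ⟨y, hy⟩ ⟨w, hw⟩ => ⟨y * w, fun z => by rw [mul_assoc, hy, hw, mul_assoc]⟩
      add_mem' := fun {a b} ⟨y, hy⟩ ⟨w, hw⟩ => ⟨y + w, fun z => by rw [add_mul, map_add, hy, hw, add_mul]⟩
      algebraMap_mem' := fun r => ⟨algebraMap F L r, fun z => by
        rw [← Algebra.smul_def, map_smul, Algebra.smul_def]⟩ }
  rcases eq_bot_or_eq_top S with e | e
  · exact absurd (e ▸ (h : x ∈ S)) hx
  · intro a
    exact (e ▸ Algebra.mem_top : a ∈ S)

section Count

variable [Fintype F] [Finite L] (h3 : finrank F L = 3)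
include h3

theorem card_field : Nat.card L = Fintype.card F ^ 3 := by
  haveI : FiniteDimensional F L := Module.finite_of_finrank_pos (by omega)
  rw [Module.natCard_eq_pow_finrank (K := F), h3, Nat.card_eq_fintype_card]

theorem card_normOne : Nat.card (normOne F L) = Fintype.card F ^ 2 + Fintype.card F + 1 := by
  have h1 := (normOne F L).card_eq_card_quotient_mul_card_subgroup
  have h2 : Nat.card (Lˣ ⧸ normOne F L) = Fintype.card F - 1 := by
    rw [normOne, Nat.card_congr (QuotientGroup.quotientKerEquivOfSurjective _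
      (FiniteField.unitsMap_norm_surjective F L)).toEquiv, Nat.card_units, Nat.card_eq_fintype_card]
  rw [h2, Nat.card_units, card_field h3] at h1
  obtain ⟨r, hr⟩ : ∃ r, Fintype.card F = r + 2 := ⟨Fintype.card F - 2, by
    have := Fintype.one_lt_card (α := F); omega⟩
  rw [hr] at h1 ⊢
  have h4 : (r + 2) ^ 3 = (r + 1) * ((r + 2) ^ 2 + (r + 2) + 1) + 1 := by ring
  rw [h4, Nat.add_sub_cancel, show r + 2 - 1 = r + 1 by omega] at h1
  exact (Nat.eq_of_mul_eq_mul_left (by omega) h1).symm

theorem card_norS : Nat.card (norS F L) = 3 * (Fintype.card F ^ 2 + Fintype.card F + 1) := by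
  haveI : FiniteDimensional F L := Module.finite_of_finrank_pos (by omega)
  have hx : ∀ e : L ≃ₐ[F] L, ∃ a : Lˣ, Algebra.norm F (a : L) * LinearMap.det e.toLinearEquiv.toLinearMap = 1 := by
    intro e
    obtain ⟨a, ha⟩ := FiniteField.unitsMap_norm_surjective F L (LinearEquiv.det e.toLinearEquiv)⁻¹
    refine ⟨a, ?_⟩
    have := congrArg (fun u : Fˣ => (u : F) * (LinearEquiv.det e.toLinearEquiv : Fˣ)) ha
    simp only [Units.inv_mul] at this
    rwa [LinearEquiv.coe_det] at this
  choose a ha using hx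
  let f : normOne F L × (L ≃ₐ[F] L) → norS F L := fun p =>
    ⟨mulE F L ((p.1 : Lˣ) * a p.2) * p.2.toLinearEquiv, mul_mem (mulE_mem_nor _) (fun x => ⟨p.2 x, fun z => map_mul p.2 x z⟩),
      mem_slE.2 <| by
        show LinearMap.det ((mulE F L ((p.1 : Lˣ) * a p.2)).toLinearMap ∘ₗ p.2.toLinearEquiv.toLinearMap) = 1
        rw [LinearMap.det_comp, det_mulE, Units.val_mul, map_mul, mem_normOne.1 p.1.2, one_mul, ha]⟩
  have hb : Function.Bijective f := by
    constructor
    · rintro ⟨c, e⟩ ⟨c', e'⟩ h
      have h' : ∀ z, ((c : Lˣ) : L) * (a e : L) * e z = ((c' : Lˣ) : L) * (a e' : L) * e' z := fun z =>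
        congrArg (fun g : norS F L => (g : L ≃ₗ[F] L) z) h
      have h1 := h' 1
      rw [map_one, map_one, mul_one, mul_one] at h1
      have he : e = e' := AlgEquiv.ext fun z => mul_left_cancel₀
        (mul_ne_zero c.1.ne_zero (a e).ne_zero) ((h' z).trans (by rw [h1]))
      subst he
      have hc : c = c' := Subtype.ext (Units.ext (mul_right_cancel₀ (a e).ne_zero h1))
      rw [hc]
    · rintro ⟨g, hgN, hgS⟩
      have hgN' : ∀ x : L, ∃ y : L, ∀ z, g (x * z) = y * g z := hgN
      choose y hy using hgN'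
      have hne : g 1 ≠ 0 := g.map_ne_zero_iff.2 one_ne_zero
      have hy1 : ∀ x, g x = y x * g 1 := fun x => by simpa using hy x 1
      let e₀ : L →ₐ[F] L := AlgHom.ofLinearMap ((LinearMap.mulRight F (g 1)⁻¹).comp g.toLinearMap)
        (mul_inv_cancel₀ hne)
        (fun x z => by
          show g (x * z) * (g 1)⁻¹ = g x * (g 1)⁻¹ * (g z * (g 1)⁻¹)
          rw [hy, hy1 x]
          field_simp)
      let e : L ≃ₐ[F] L := AlgEquiv.ofBijective e₀ (Finite.injective_iff_bijective.1 e₀.toRingHom.injective)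
      have he : ∀ x, g x = g 1 * e x := fun x => by
        show g x = g 1 * (g x * (g 1)⁻¹)
        field_simp
      have hcomp : g.toLinearMap = (mulE F L (Units.mk0 _ hne)).toLinearMap ∘ₗ e.toLinearEquiv.toLinearMap :=
        LinearMap.ext he
      have hd := mem_slE.1 hgS
      rw [hcomp, LinearMap.det_comp, det_mulE] at hd
      refine ⟨(⟨Units.mk0 _ hne * (a e)⁻¹, mem_normOne.2 ?_⟩, e), Subtype.ext (LinearEquiv.ext fun z => ?_)⟩
      · have h1 : Algebra.norm F (((a e)⁻¹ : Lˣ) : L) * Algebra.norm F (a e : L) = 1 := by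
          rw [← map_mul, Units.inv_mul, map_one]
        rw [Units.val_mul, map_mul]
        linear_combination (-Algebra.norm F ((Units.mk0 _ hne : Lˣ) : L) * Algebra.norm F (((a e)⁻¹ : Lˣ) : L)) * ha e +
          (Algebra.norm F (((a e)⁻¹ : Lˣ) : L) * Algebra.norm F (a e : L)) * hd + h1
      · show (((Units.mk0 _ hne * (a e)⁻¹) * a e : Lˣ) : L) * e z = g z
        rw [inv_mul_cancel_right, Units.val_mk0, ← he]
  rw [← Nat.card_eq_of_bijective f hb, Nat.card_prod, card_normOne h3, IsGalois.card_aut_eq_finrank, h3, mul_comm]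

end Count

end Cfsg.Agent.ClassicalMax.SL3.Singer
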