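import Cfsg.Agent.ClassicalMax.SL3.Singer.Arith
import Cfsg.Agent.ClassicalMax.SL3.Singer.Bound

/-!
Overgroups of the normaliser of a cubic field in the special linear group.
-/

set_option autoImplicit false
set_option linter.unusedSectionVars false
set_option linter.style.haveILetI false

namespace Cfsg.Agent.ClassicalMax.SL3.Singer

open Module

variable {F L : Type*} [Field F] [Field L] [Algebra F L] [Fintype F] [Finite L]

theorem cube_scalar (h3 : finrank F L = 3) {x : Lˣ} (hx : x ^ 3 = 1) : (x : L) ∈ (⊥ : Subalgebra F L) := by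
  let j : Fˣ →* Lˣ := Units.map (algebraMap F L : F →* L)
  have hj : Function.Injective j := Units.map_injective (algebraMap F L).injective
  have heq : (powMonoidHom 3 : Fˣ →* Fˣ).ker.map j = (powMonoidHom 3 : Lˣ →* Lˣ).ker := by
    refine Subgroup.eq_of_le_of_card_ge ?_ ?_
    · rintro _ ⟨a, ha, rfl⟩
      show j a ^ 3 = 1
      rw [← map_pow, show a ^ 3 = 1 from ha, map_one]
    · rw [Nat.card_congr (Subgroup.equivMapOfInjective _ j hj).toEquiv.symm, IsCyclic.card_powMonoidHom_ker,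
        IsCyclic.card_powMonoidHom_ker, Nat.card_units, Nat.card_units, card_field h3, Nat.card_eq_fintype_card]
      have hq := Fintype.one_lt_card (α := F)
      generalize Fintype.card F = q at hq ⊢
      rw [Nat.gcd_comm, Nat.gcd_comm (q - 1), Nat.gcd_rec, Nat.gcd_rec 3 (q - 1)]
      have hmod : q ^ 3 % 3 = q % 3 := by
        rw [Nat.pow_mod]; have := Nat.mod_lt q (show 3 > 0 by norm_num); interval_cases q % 3 <;> rfl
      have h1 : (q ^ 3 - 1) % 3 = (q - 1) % 3 := by
        have : 0 < q ^ 3 := by positivity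
        omega
      rw [h1]
  obtain ⟨a, -, ha⟩ : x ∈ (powMonoidHom 3 : Fˣ →* Fˣ).ker.map j := heq ▸ (hx : x ∈ (powMonoidHom 3 : Lˣ →* Lˣ).ker)
  exact Algebra.mem_bot.2 ⟨(a : F), congrArg Units.val ha⟩

theorem not_nine (q : ℕ) : ¬ 9 ∣ q ^ 2 + q + 1 := by
  intro h
  have h' : (q % 9 * (q % 9) + q % 9 + 1) % 9 = 0 := by
    simpa [Nat.dvd_iff_mod_eq_zero, pow_two, Nat.add_mod, Nat.mul_mod] using h
  have := Nat.mod_lt q (show 9 > 0 by norm_num)
  interval_cases q % 9 <;> simp at h'

theorem scalar_of_cube (h3 : finrank F L = 3) {x : Lˣ} (hx : x ∈ normOne F L)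
    (h : ((x ^ 3 : Lˣ) : L) ∈ (⊥ : Subalgebra F L)) : x ^ 3 = 1 := by
  obtain ⟨l, hl⟩ := Algebra.mem_bot.1 h
  have hl3 : l ^ 3 = 1 := by
    have h1 := congrArg (Algebra.norm F) hl
    rw [Algebra.norm_algebraMap, h3, Units.val_pow_eq_pow_val, map_pow, mem_normOne.1 hx, one_pow] at h1
    exact h1
  have h9 : orderOf x ∣ 9 := orderOf_dvd_of_pow_eq_one (Units.ext (by
    rw [show (9 : ℕ) = 3 * 3 from rfl, pow_mul, Units.val_pow_eq_pow_val, ← hl, ← map_pow, hl3, map_one, Units.val_one]))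
  have hc : orderOf x ∣ Fintype.card F ^ 2 + Fintype.card F + 1 := by
    rw [← card_normOne h3, ← Subgroup.orderOf_mk x hx]
    exact orderOf_dvd_natCard _
  apply orderOf_dvd_iff_pow_eq_one.1
  obtain ⟨i, hi, e⟩ := (Nat.dvd_prime_pow Nat.prime_three).1 (show orderOf x ∣ 3 ^ 2 from h9)
  rw [e] at hc ⊢
  interval_cases i
  · exact one_dvd _
  · exact dvd_rfl
  · exact absurd hc (not_nine _)

/-- cubes of semilinear maps are multiplications -/
theorem pow_three_mul (h3 : finrank F L = 3) {k : L ≃ₗ[F] L} (hk : k ∈ nor F L) :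
    ∀ z, (k ^ 3) z = (k ^ 3) 1 * z := by
  haveI : FiniteDimensional F L := Module.finite_of_finrank_pos (by omega)
  have hk' : ∀ x : L, ∃ y : L, ∀ z, k (x * z) = y * k z := hk
  choose y hy using hk'
  have hne : k 1 ≠ 0 := k.map_ne_zero_iff.2 one_ne_zero
  have hy1 : ∀ x, k x = y x * k 1 := fun x => by simpa using hy x 1
  let e₀ : L →ₐ[F] L := AlgHom.ofLinearMap ((LinearMap.mulRight F (k 1)⁻¹).comp k.toLinearMap) (mul_inv_cancel₀ hne)
    (fun x z => by
      show k (x * z) * (k 1)⁻¹ = k x * (k 1)⁻¹ * (k z * (k 1)⁻¹)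
      rw [hy, hy1 x]
      field_simp)
  let e : L ≃ₐ[F] L := AlgEquiv.ofBijective e₀ (Finite.injective_iff_bijective.1 e₀.toRingHom.injective)
  have he : ∀ x z, k (x * z) = e x * k z := fun x z => by
    show k (x * z) = k x * (k 1)⁻¹ * k z
    rw [hy, hy1 x]
    field_simp
  have he3 : e ^ 3 = 1 := by
    have := pow_card_eq_one' (x := e)
    rwa [IsGalois.card_aut_eq_finrank, h3] at this
  intro z
  have h := congrArg (fun f : L ≃ₐ[F] L => f z) he3
  simp only [pow_succ, pow_zero, one_mul, AlgEquiv.mul_apply, AlgEquiv.one_apply] at h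
  simp only [pow_succ, pow_zero, one_mul, LinearEquiv.mul_apply]
  conv_lhs => rw [← mul_one z, he, he, he, h]
  rw [mul_comm]

theorem coprime_three {q : ℕ} : Nat.gcd (q ^ 2 + q + 1) 3 = if q % 3 = 1 then 3 else 1 := by
  rw [Nat.gcd_comm, Nat.gcd_rec, show (q ^ 2 + q + 1) % 3 = ((q % 3) ^ 2 + q % 3 + 1) % 3 by simp [Nat.add_mod, Nat.pow_mod]]
  have := Nat.mod_lt q (show 3 > 0 by norm_num)
  interval_cases q % 3 <;> rfl

/-- the index of the normaliser is one more than a multiple of the reduced order -/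
theorem dvd_index (h3 : finrank F L = 3) {M : Subgroup (L ≃ₗ[F] L)} (hM : norS F L ≤ M) (hsl : M ≤ slE F L) :
    (Fintype.card F ^ 2 + Fintype.card F + 1) / Nat.gcd (Fintype.card F ^ 2 + Fintype.card F + 1) 3 ∣
      ((norS F L).subgroupOf M).index - 1 := by
  classical
  haveI : Finite (L ≃ₗ[F] L) := Finite.of_injective _ DFunLike.coe_injective
  set c := Fintype.card F ^ 2 + Fintype.card F + 1 with hc
  set H := (norS F L).subgroupOf M with hH
  let X := M ⧸ H
  have hmem : ∀ a : normOne F L, mulE F L (a : Lˣ) ∈ norS F L := fun a =>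
    ⟨mulE_mem_nor _, mem_slE.2 (by rw [det_mulE]; exact mem_normOne.1 a.2)⟩
  let f : normOne F L →* M := ((mulE F L).comp (normOne F L).subtype).codRestrict M fun a => hM (hmem a)
  letI : MulAction (normOne F L) X := MulAction.compHom X f
  let base : X := ((1 : M) : M ⧸ H)
  have hfix : ∀ a : normOne F L, a • base = base := fun a => by
    show ((f a * 1 : M) : M ⧸ H) = _
    refine QuotientGroup.eq.2 ?_
    rw [mul_one, mul_one, Subgroup.inv_mem_iff]
    exact hmem a
  have hstab : ∀ x : X, x ≠ base → MulAction.stabilizer (normOne F L) x = (powMonoidHom 3 : normOne F L →* normOne F L).ker := by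
    intro x hx
    obtain ⟨g, rfl⟩ := QuotientGroup.mk_surjective x
    ext a
    rw [MulAction.mem_stabilizer_iff]
    constructor
    · intro ha
      have ha' : ((f a * g : M) : M ⧸ H) = (g : M ⧸ H) := ha
      have hk : (g : L ≃ₗ[F] L)⁻¹ * (mulE F L (a : Lˣ) * g) ∈ norS F L := by
        have := QuotientGroup.eq.1 ha'.symm
        simpa [hH, Subgroup.mem_subgroupOf, f] using this
      set k := (g : L ≃ₗ[F] L)⁻¹ * (mulE F L (a : Lˣ) * g) with hkd
      have hk3 : ∀ z, (g : L ≃ₗ[F] L) ((k ^ 3) 1 * z) = ((a : Lˣ) ^ 3 : Lˣ) * (g : L ≃ₗ[F] L) z := fun z => by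
        rw [← pow_three_mul h3 hk.1 z, ← LinearEquiv.mul_apply,
          show (g : L ≃ₗ[F] L) * k ^ 3 = mulE F L ((a : Lˣ) ^ 3) * g by rw [map_pow, hkd, pow_succ, pow_two, pow_succ, pow_two]; group,
          LinearEquiv.mul_apply, mulE_apply]
      by_contra hne
      refine hx (QuotientGroup.eq.2 ?_)
      have hgn : (g : L ≃ₗ[F] L) ∈ nor F L := by
        refine mem_nor_of_one h3 (x := (k ^ 3) 1) (fun hb => hne ?_) ⟨_, hk3⟩
        obtain ⟨l, hl⟩ := Algebra.mem_bot.1 hb
        refine Subtype.ext (scalar_of_cube h3 a.2 (Algebra.mem_bot.2 ⟨l, ?_⟩))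
        have h1 := hk3 ((g : L ≃ₗ[F] L)⁻¹ 1)
        rw [← hl, ← Algebra.smul_def, map_smul, apply_inv, mul_one, Algebra.smul_def, mul_one] at h1
        exact h1
      show (g⁻¹ * 1 : M) ∈ H
      rw [mul_one, Subgroup.inv_mem_iff]
      exact ⟨hgn, hsl g.2⟩
    · intro ha
      obtain ⟨l, hl⟩ := Algebra.mem_bot.1 (cube_scalar h3 (x := (a : Lˣ)) (congrArg Subtype.val (ha : a ^ 3 = 1)))
      show ((f a * g : M) : M ⧸ H) = _
      have e : f a * g = g * f a := Subtype.ext (LinearEquiv.ext fun z => by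
        show (a : Lˣ) * (g : L ≃ₗ[F] L) z = (g : L ≃ₗ[F] L) ((a : Lˣ) * z)
        rw [← hl, ← Algebra.smul_def, ← Algebra.smul_def, map_smul])
      rw [e]
      exact (QuotientGroup.eq.2 (by simpa [hH, Subgroup.mem_subgroupOf, f] using hmem a)).symm
  set n := c / Nat.gcd c 3 with hn
  have hn' : Nat.card (powMonoidHom 3 : normOne F L →* normOne F L).ker * n = c := by
    rw [IsCyclic.card_powMonoidHom_ker, card_normOne h3, hn, Nat.mul_div_cancel' (Nat.gcd_dvd_left _ _)]
  have horb : ∀ x : X, (Nat.card (MulAction.orbit (normOne F L) x) : ZMod n) = if x = base then 1 else 0 := by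
    intro x
    split_ifs with hx
    · have : MulAction.orbit (normOne F L) x = {base} := by
        subst hx
        ext y
        exact ⟨fun ⟨a, e⟩ => e ▸ hfix a, fun e => ⟨1, by rw [e]; exact one_smul _ _⟩⟩
      rw [this]
      simp
    · have h1 := Subgroup.card_mul_index (MulAction.stabilizer (normOne F L) x)
      rw [MulAction.index_stabilizer, hstab x hx, card_normOne h3] at h1
      have h2 : Nat.card (MulAction.orbit (normOne F L) x) = n := by
        rw [Nat.card_coe_set_eq]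
        exact Nat.eq_of_mul_eq_mul_left Nat.card_pos (h1.trans hn'.symm)
      rw [h2, ZMod.natCast_self]
  haveI : Fintype X := Fintype.ofFinite X
  haveI : Fintype (MulAction.orbitRel.Quotient (normOne F L) X) := Fintype.ofFinite _
  have hcount : ((Nat.card X : ℕ) : ZMod n) = 1 := by
    rw [Nat.card_congr (MulAction.selfEquivSigmaOrbits (normOne F L) X), Nat.card_sigma, Nat.cast_sum,
      Finset.sum_eq_single (Quotient.mk'' base : MulAction.orbitRel.Quotient (normOne F L) X)]
    · rw [horb, if_pos]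
      have h := Quotient.out_eq (Quotient.mk'' base : MulAction.orbitRel.Quotient (normOne F L) X)
      obtain ⟨a, ha⟩ := MulAction.orbitRel_apply.1 (Quotient.exact h)
      exact ha.symm.trans (hfix a)
    · intro ω _ hω
      rw [horb, if_neg]
      intro e
      exact hω (by rw [← Quotient.out_eq ω, e])
    · exact fun h => absurd (Finset.mem_univ _) h
  have hpos : 1 ≤ Nat.card X := Nat.card_pos
  show n ∣ Nat.card X - 1
  rw [← CharP.cast_eq_zero_iff (ZMod n) n, Nat.cast_sub hpos, hcount, Nat.cast_one, sub_self]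

theorem card_slE (h3 : finrank F L = 3) :
    Nat.card (slE F L) = Fintype.card F ^ 3 * (Fintype.card F ^ 2 - 1) * (Fintype.card F ^ 3 - 1) := by
  haveI : FiniteDimensional F L := Module.finite_of_finrank_pos (by omega)
  let b := Module.finBasisOfFinrankEq F L h3
  let E : GL (Fin 3) F ≃ (L ≃ₗ[F] L) :=
    (Cfsg.Agent.ClassicalMax.glEquiv (Fin 3) F).toEquiv.trans
      { toFun := fun g => b.equivFun.trans (g.trans b.equivFun.symm)
        invFun := fun g => b.equivFun.symm.trans (g.trans b.equivFun)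
        left_inv := fun g => LinearEquiv.ext fun x => by simp only [LinearEquiv.trans_apply, LinearEquiv.apply_symm_apply]
        right_inv := fun g => LinearEquiv.ext fun x => by simp only [LinearEquiv.trans_apply, LinearEquiv.symm_apply_apply] }
  have hsurj : Function.Surjective (LinearEquiv.det : (L ≃ₗ[F] L) →* Fˣ) := by
    intro u
    obtain ⟨a, ha⟩ := FiniteField.unitsMap_norm_surjective F L u
    exact ⟨mulE F L a, Units.ext (by rw [LinearEquiv.coe_det, det_mulE, ← ha]; rfl)⟩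
  have h1 := (slE F L).card_eq_card_quotient_mul_card_subgroup
  rw [← Nat.card_congr E, Matrix.card_GL_field, slE,
    Nat.card_congr (QuotientGroup.quotientKerEquivOfSurjective _ hsurj).toEquiv, Nat.card_units,
    Nat.card_eq_fintype_card, Fin.prod_univ_three] at h1
  simp only [Fin.val_zero, Fin.val_one, Fin.val_two, pow_zero, pow_one] at h1
  rw [slE]
  have hq := Fintype.one_lt_card (α := F)
  generalize Fintype.card F = q at h1 hq ⊢
  have e : (q ^ 3 - 1) * (q ^ 3 - q) * (q ^ 3 - q ^ 2) = (q - 1) * (q ^ 3 * (q ^ 2 - 1) * (q ^ 3 - 1)) := by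
    rw [show q ^ 3 - q = q * (q ^ 2 - 1) by rw [Nat.mul_sub, mul_one]; ring_nf,
      show q ^ 3 - q ^ 2 = q ^ 2 * (q - 1) by rw [Nat.mul_sub, mul_one]; ring_nf]
    ring
  rw [e] at h1
  exact (Nat.eq_of_mul_eq_mul_left (by omega) h1).symm

theorem irreducible (h3 : finrank F L = 3) {M : Subgroup (L ≃ₗ[F] L)} (hM : norS F L ≤ M) :
    ∀ U : Submodule F L, (∀ g ∈ M, ∀ u ∈ U, g u ∈ U) → U = ⊥ ∨ U = ⊤ := by
  intro U hU
  by_contra hne
  rw [not_or] at hne
  have hle : Nat.card (normOne F L) ≤ Nat.card (powMonoidHom 3 : normOne F L →* normOne F L).ker := by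
    refine Nat.card_le_card_of_injective (fun a => ⟨a, ?_⟩) fun a b h => congrArg Subtype.val h
    refine Subtype.ext (scalar_of_cube h3 a.2 ?_)
    rw [Units.val_pow_eq_pow_val]
    refine pow_mem (scalar_of_stab h3 hne.1 hne.2 fun u hu => ?_) 3
    exact hU _ (hM ⟨mulE_mem_nor (a : Lˣ), mem_slE.2 (by rw [det_mulE]; exact mem_normOne.1 a.2)⟩) u hu
  rw [IsCyclic.card_powMonoidHom_ker, card_normOne h3] at hle
  have := Nat.gcd_le_right (n := 3) (Fintype.card F ^ 2 + Fintype.card F + 1) (by norm_num)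
  have := Fintype.one_lt_card (α := F)
  have := Nat.pow_le_pow_left (show 2 ≤ Fintype.card F by omega) 2
  omega

/-- a full Sylow subgroup brings a root group -/
theorem exists_root (h3 : finrank F L = 3) {M : Subgroup (L ≃ₗ[F] L)} (hsl : M ≤ slE F L)
    (hdvd : Fintype.card F ^ 3 ∣ Nat.card M) : ∃ (φ : Dual F L) (v : L), Root M φ v := by
  haveI : Finite (L ≃ₗ[F] L) := Finite.of_injective _ DFunLike.coe_injective
  haveI : FiniteDimensional F L := Module.finite_of_finrank_pos (by omega)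
  obtain ⟨p, hp⟩ := CharP.exists F
  obtain ⟨n, hp', hF⟩ := FiniteField.card F p
  haveI : Fact p.Prime := ⟨hp'⟩
  have hpn : p ∣ Fintype.card F := hF ▸ dvd_pow_self p n.ne_zero
  obtain ⟨φ, v, hφv, hφ, hv⟩ : ∃ (φ : Dual F L) (v : L), φ v = 0 ∧ φ ≠ 0 ∧ v ≠ 0 := by
    obtain ⟨u, -, hu⟩ := SetLike.exists_of_lt (lt_top_iff_ne_top.2 (fun e => by
      have := finrank_span_singleton (K := F) (one_ne_zero (α := L))
      rw [e, finrank_top, h3] at this; omega) : F ∙ (1 : L) < ⊤)
    obtain ⟨φ, h1, h2⟩ := exists_dual_one _ hu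
    exact ⟨φ, 1, h2 1 (Submodule.mem_span_singleton_self _), fun e => by simp [e] at h1, one_ne_zero⟩
  have hin : ∀ a : F, φ (a • v) = 0 := fun a => by rw [map_smul, hφv, smul_zero]
  let t : Multiplicative F →* slE F L :=
    { toFun := fun a => ⟨tvec φ (a.toAdd • v), mem_slE.2 (by
        rw [show (tvec φ (a.toAdd • v)).toLinearMap = LinearMap.transvection φ (a.toAdd • v) from
          LinearMap.ext fun x => (tvec_apply (hin _) x).trans (LinearMap.transvection.apply _ _ _).symm,
          LinearMap.transvection.det, hin, add_zero])⟩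
      map_one' := Subtype.ext (by simp [tvec_zero_right])
      map_mul' := fun a b => Subtype.ext (by
        show tvec φ ((a.toAdd + b.toAdd) • v) = tvec φ _ * tvec φ _
        rw [tvec_mul_right (hin _) (hin _), add_smul]) }
  have hT : IsPGroup p t.range := by
    obtain ⟨k, hk, he⟩ := (Nat.dvd_prime_pow hp').1 (show Nat.card t.range ∣ p ^ (n : ℕ) by
      refine (Subgroup.card_range_dvd t).trans ?_
      rw [Nat.card_congr Multiplicative.toAdd, Nat.card_eq_fintype_card, hF])
    exact IsPGroup.of_card he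
  obtain ⟨P, hP⟩ := hT.exists_le_sylow
  obtain ⟨S, hS⟩ := Sylow.exists_subgroup_card_pow_prime p (G := M) (n := (n : ℕ) * 3) (by rwa [hF, ← pow_mul] at hdvd)
  set S' : Subgroup (slE F L) := S.map (Subgroup.inclusion hsl) with hS'
  have hcS : Nat.card S' = p ^ ((n : ℕ) * 3) := by
    rw [← hS, hS', Nat.card_congr (S.equivMapOfInjective _ (Subgroup.inclusion_injective hsl)).toEquiv]
  have hidx : ¬ p ∣ S'.index := by
    intro hd
    have h1 := S'.card_mul_index
    rw [hcS, card_slE h3, hF, ← pow_mul, mul_assoc] at h1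
    rw [Nat.eq_of_mul_eq_mul_left (pow_pos hp'.pos _) h1] at hd
    have hno : ∀ m : ℕ, 0 < m → ¬ p ∣ (p ^ (n : ℕ)) ^ m - 1 := fun m hm h => by
      have h2 : p ∣ (p ^ (n : ℕ)) ^ m := dvd_pow (dvd_pow_self p n.ne_zero) hm.ne'
      have h3 := Nat.dvd_sub h2 h
      rw [Nat.sub_sub_self (Nat.one_le_pow _ _ (pow_pos hp'.pos _))] at h3
      exact hp'.one_lt.ne' (Nat.dvd_one.1 h3)
    rcases hp'.dvd_mul.1 hd with h | h
    · exact hno 2 (by norm_num) h
    · exact hno 3 (by norm_num) (by rwa [← pow_mul])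
  let Q : Sylow p (slE F L) := (IsPGroup.of_card hcS).toSylow hidx
  obtain ⟨g, hg⟩ := MulAction.exists_smul_eq (slE F L) P Q
  refine ⟨φ.comp ((g : L ≃ₗ[F] L)⁻¹ : L ≃ₗ[F] L).toLinearMap, (g : L ≃ₗ[F] L) v, ?_, ?_, (g : L ≃ₗ[F] L).map_ne_zero_iff.2 hv, fun a => ?_⟩
  · show φ ((g : L ≃ₗ[F] L)⁻¹ ((g : L ≃ₗ[F] L) v)) = 0
    rw [inv_apply, hφv]
  · intro e
    refine hφ (LinearMap.ext fun x => ?_)
    have := LinearMap.congr_fun e ((g : L ≃ₗ[F] L) x)
    simpa [inv_apply] using this
  · have h1 : (g * t (Multiplicative.ofAdd a) * g⁻¹ : slE F L) ∈ (Q : Subgroup (slE F L)) := by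
      rw [← hg, Sylow.coe_subgroup_smul]
      exact Subgroup.smul_mem_pointwise_smul _ (MulAut.conj g) _ (hP ⟨_, rfl⟩)
    have h2 : (g * t (Multiplicative.ofAdd a) * g⁻¹ : slE F L) ∈ S' := h1
    obtain ⟨m, -, hm⟩ := h2
    have h3' : (m : L ≃ₗ[F] L) = (g : L ≃ₗ[F] L) * tvec φ (a • v) * (g : L ≃ₗ[F] L)⁻¹ := congrArg Subtype.val hm
    rw [conj_tvec _ (hin a), map_smul] at h3'
    exact h3' ▸ m.2

/-- the overgroups of the normaliser of the field -/
theorem over_norS (h3 : finrank F L = 3) (hq4 : Fintype.card F ≠ 4) {M : Subgroup (L ≃ₗ[F] L)} (hM : norS F L ≤ M)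
    (hsl : M ≤ slE F L) : M = norS F L ∨ ∀ (φ : Dual F L) (v : L), φ v = 0 → tvec φ v ∈ M := by
  haveI : FiniteDimensional F L := Module.finite_of_finrank_pos (by omega)
  haveI : Finite (L ≃ₗ[F] L) := Finite.of_injective _ DFunLike.coe_injective
  have hq := Fintype.one_lt_card (α := F)
  have hdvd := dvd_index h3 hM hsl
  set q := Fintype.card F with hqd
  set c := q ^ 2 + q + 1 with hc
  set D := ((norS F L).subgroupOf M).index with hD
  set E := (M.subgroupOf (slE F L)).index with hE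
  have hcM : Nat.card M = 3 * c * D := by
    rw [← Subgroup.card_mul_index ((norS F L).subgroupOf M), Nat.card_congr (Subgroup.subgroupOfEquivOfLe hM).toEquiv,
      card_norS h3]
  have hcS : q ^ 3 * (q ^ 2 - 1) * (q ^ 3 - 1) = 3 * c * D * E := by
    rw [hqd, ← card_slE h3, ← Subgroup.card_mul_index (M.subgroupOf (slE F L)),
      Nat.card_congr (Subgroup.subgroupOfEquivOfLe hsl).toEquiv, hcM]
  obtain ⟨r, hr⟩ : ∃ r, q = r + 1 := ⟨q - 1, by omega⟩
  have hfact : (q ^ 2 - 1) = (q - 1) * (q + 1) ∧ q ^ 3 - 1 = (q - 1) * c := by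
    have e2 : q ^ 2 = r * (r + 2) + 1 := by rw [hr]; ring
    have e3 : q ^ 3 = r * c + 1 := by rw [hc, hr]; ring
    rw [e2, e3, hr]
    simp
  have hN : 3 * (D * E) = q ^ 3 * (q - 1) ^ 2 * (q + 1) := by
    rw [hfact.1, hfact.2] at hcS
    exact Nat.eq_of_mul_eq_mul_left (show 0 < c by rw [hc]; positivity)
      (by rw [show c * (q ^ 3 * (q - 1) ^ 2 * (q + 1)) = q ^ 3 * ((q - 1) * (q + 1)) * ((q - 1) * c) by ring, hcS]; ring)
  have hg : Nat.gcd c 3 * (c / Nat.gcd c 3) = c := Nat.mul_div_cancel' (Nat.gcd_dvd_left _ _)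
  have hd : Nat.gcd c 3 = 1 ∧ q % 3 ≠ 1 ∨ Nat.gcd c 3 = 3 ∧ q % 3 = 1 := by
    rw [hc, coprime_three]; split_ifs with h <;> omega
  obtain ⟨p, hp⟩ := CharP.exists F
  obtain ⟨n, hp', hF⟩ := FiniteField.card F p
  have hpp : IsPrimePow q := by
    rw [hqd, hF]; exact hp'.isPrimePow.pow n.ne_zero
  have hpart : D = 1 → M = norS F L := fun h1 => le_antisymm (Subgroup.subgroupOf_eq_top.1 (Subgroup.index_eq_one.1 h1)) hM
  rcases arith hpp hq4 hd hg hN hdvd with h | h | h | h
  · exact Or.inl (hpart h)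
  · refine Or.inr fun φ v hv => Subgroup.subgroupOf_eq_top.1 (Subgroup.index_eq_one.1 h) (mem_slE.2 ?_)
    rw [show (tvec φ v).toLinearMap = LinearMap.transvection φ v from
      LinearMap.ext fun x => (tvec_apply hv x).trans (LinearMap.transvection.apply _ _ _).symm,
      LinearMap.transvection.det, hv, add_zero]
  · obtain ⟨φ, v, hR⟩ := exists_root h3 hsl (by rw [hcM, ← hqd, h]; exact dvd_mul_left _ _)
    exact Or.inr (all_of_root h3 (irreducible h3 hM) hR)
  · by_cases hq2 : q = 2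
    · exact Or.inl (hpart (by rw [hq2] at h; omega))
    exfalso
    have hcard : Nat.card M = c * ((q - 1) ^ 2 * (q + 1)) := by rw [hcM, ← h]; ring
    refine false_of_large h3 (fun g hg => mem_slE.1 (hsl hg))
      (fun x hx => hM ⟨mulE_mem_nor x, mem_slE.2 (by rw [det_mulE]; exact mem_normOne.1 hx)⟩) ?_ ?_ hq2 hq4
    · have hq0 : ((q : ℕ) : F) = 0 := by rw [hqd]; exact Nat.cast_card_eq_zero F
      rw [hcard, hc]
      push_cast [Nat.cast_sub (show 1 ≤ q by omega)]
      rw [hq0]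
      norm_num
    · rw [← hqd, hcard, hfact.1, hfact.2]
      exact le_of_eq (by ring)

end Cfsg.Agent.ClassicalMax.SL3.Singer
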